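/-
The group of Janko's 7 × 7 matrices over the integers modulo 11 (helper16).
-/
import Cfsg.Agent.Lib.ToddCox.J1O.Main
import Cfsg.Agent.Lib.ToddCox.OpMap
import Cfsg.Prelude.Def_SporadicB
import Cfsg.Prelude.Def_Sporadic

set_option autoImplicit false
set_option maxRecDepth 100000

namespace Cfsg.Agent.Lib.ToddCox.J1Mat

open Cfsg

abbrev GL7 : Type := GL (Fin 7) (ZMod 11)
abbrev Q : Type := PresentedGroup (Spor.coxRelators OPJ1.edges ∪ {r | r ∈ OPJ1.extra})

def xG : GL7 := ⟨jankoMatrixX, jankoMatrixX ^ 6, by decide +kernel, by decide +kernel⟩
def yG : GL7 := ⟨jankoMatrixY, jankoMatrixY ^ 4, by decide +kernel, by decide +kernel⟩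

def tw (w : List Bool) : GL7 := (w.map (fun b => cond b yG xG)).prod

def f : OPJ1.Gen → GL7
  | .a => tw [false, false, true, true, false, false, false, true, true, false, false, false, true, true, false]
  | .b => tw [false, true, false, true, true, false, true, false, false, true, false, true, false, true, true, false, true, false, false, true, false, true, false, true, true, false, true, false, false, true, false, true, false, true, true, false, true, false, false, true, false, true, false, true, true, false, true, false, false, true]
  | .c => tw [true, false, true, false, true, true, true, false, true, false, true, true, true, false, true, false, true, true, true, false, true, false, true, true, true, false, true, false, true, true]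
  | .d => tw [false, true, false, true, false, true, false, true, false, true]
  | .e => tw [false, true, false, false, false, false, true, false, false, false, false, true, false, false, false, false, true, false, false, false, false, true, false, false, false]

theorem rels_ok : ∀ r ∈ coxList OPJ1.edges ++ OPJ1.extra, FreeGroup.lift f r = 1 := by decide +kernel

noncomputable def φ : Q →* GL7 := presMap OPJ1.edges OPJ1.extra f rels_ok

theorem hx : (([.d, .a, .e, .c, .a, .b, .e, .a, .b, .a, .d] : List OPJ1.Gen).map f).prod = xG := by decide +kernel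
theorem hy : (([.b, .e, .d, .e, .d, .c, .b] : List OPJ1.Gen).map f).prod = yG := by decide +kernel

theorem tw_mem (w : List Bool) : tw w ∈ Subgroup.closure ({xG, yG} : Set GL7) := by
  apply Subgroup.list_prod_mem
  intro g hg
  obtain ⟨b, _, rfl⟩ := List.mem_map.mp hg
  cases b
  · exact Subgroup.subset_closure (by simp)
  · exact Subgroup.subset_closure (by simp)

theorem closure_eq : Subgroup.closure ({xG, yG} : Set GL7) = φ.range := by
  apply le_antisymm
  · rw [Subgroup.closure_le]
    rintro g (rfl | rfl)
    · exact ⟨_, (presMap_prod OPJ1.edges OPJ1.extra f rels_ok _).trans hx⟩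
    · exact ⟨_, (presMap_prod OPJ1.edges OPJ1.extra f rels_ok _).trans hy⟩
  · apply range_le_of_gens
    intro a
    show presMap OPJ1.edges OPJ1.extra f rels_ok (PresentedGroup.of a) ∈ _
    rw [presMap_of]
    cases a <;> exact tw_mem _

theorem f_ne : f .a ≠ 1 := by decide +kernel

theorem main : ∃ x y : GL (Fin 7) (ZMod 11), (x : Matrix (Fin 7) (Fin 7) (ZMod 11)) = Cfsg.jankoMatrixX ∧
    (y : Matrix (Fin 7) (Fin 7) (ZMod 11)) = Cfsg.jankoMatrixY ∧ Cfsg.IsJ1 (Subgroup.closure ({x, y} : Set (GL (Fin 7) (ZMod 11)))) := by
  refine ⟨xG, yG, rfl, rfl, ?_⟩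
  rw [closure_eq]
  have hne : φ (PresentedGroup.of .a) ≠ 1 := by
    show presMap OPJ1.edges OPJ1.extra f rels_ok (PresentedGroup.of .a) ≠ 1
    rw [presMap_of]
    exact f_ne
  obtain ⟨h1, h2⟩ := simple_range J1O.main.1 φ hne
  exact ⟨h1, h2.trans J1O.main.2⟩

end Cfsg.Agent.Lib.ToddCox.J1Mat
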